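import Groth.Agent.AlgSp.K489.SqTors
import Groth.Agent.AbVar.K507.PicExt
import Groth.Agent.SDiv.K471.NormLF
import Groth.Agent.Picfga.HilbPull

/-!
# The kernel of `Pic X → Pic X_Ω` is torsion for an algebraic field extension `Ω / F`

`exists_pow_eq_one`: `X` quasi-compact quasi-separated over `F`, `Ω / F` algebraic, `c` a class on `X` trivial on
`X_Ω`: some positive power of `c` is trivial.
-/

set_option autoImplicit false
universe u

open CategoryTheory CategoryTheory.Limits AlgebraicGeometry TopologicalSpace TensorProduct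

namespace K489.SqField

open Groth.Agent Groth.Agent.Grpsch.PicGrp Groth.Agent.Fdesc.LocGen Groth.Agent.CurvesA.FlatH0
  Groth.Agent.VarietyB.PullSec Groth.Agent.CurvesB K507.PicExt

theorem exists_deg (F F' : Type u) [Field F] [Field F'] [Algebra F F'] [FiniteDimensional F F'] :
    ∃ d : ℕ, 0 < d ∧ Mor2.IsFinLocFreeOfDeg d (Spec.map (CommRingCat.ofHom (algebraMap F F'))) := by
  obtain ⟨hfl, hsu⟩ := flat_spec (K := F) (L := F')
  have hfin : IsFinite (Spec.map (CommRingCat.ofHom (algebraMap F F'))) := by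
    rw [IsFinite.SpecMap_iff]
    exact (RingHom.finite_algebraMap (A := F) (B := F')).mpr inferInstance
  have hfp : LocallyOfFinitePresentation (Spec.map (CommRingCat.ofHom (algebraMap F F'))) := by
    rw [HasRingHomProperty.Spec_iff (P := @LocallyOfFinitePresentation)]
    have : Algebra.FinitePresentation F F' := Algebra.FinitePresentation.of_finiteType.mp inferInstance
    exact (RingHom.finitePresentation_algebraMap (A := F) (B := F')).mpr this
  have hsub : Subsingleton (Spec (CommRingCat.of F)) := inferInstanceAs (Subsingleton (PrimeSpectrum F))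
  let y : Spec (CommRingCat.of F) := (IsLocalRing.closedPoint F : PrimeSpectrum F)
  refine ⟨(Spec.map (CommRingCat.ofHom (algebraMap F F'))).finrank y, ?_, ⟨hfin, hfl, hfp⟩, fun z => by
    rw [Subsingleton.elim z y]⟩
  obtain ⟨x, hx⟩ := hsu.surj y
  rw [← hx]
  exact Scheme.Hom.one_le_finrank_map _ x

/-- Finite field extensions. -/
theorem exists_pow_eq_one_of_finite {F F' : Type u} [Field F] [Field F'] [Algebra F F'] [FiniteDimensional F F']
    {X X' : Scheme.{u}} (q : X ⟶ Spec (CommRingCat.of F)) (g : X' ⟶ X) (q' : X' ⟶ Spec (CommRingCat.of F'))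
    (H : IsPullback g q' q (Spec.map (CommRingCat.ofHom (algebraMap F F')))) (c : Pic X) (h : pull g c = 1) :
    ∃ d : ℕ, 0 < d ∧ c ^ d = 1 := by
  obtain ⟨d, hd, hdeg⟩ := exists_deg F F'
  have h1 := Groth.Agent.Picfga.HilbPull.isFinLocFreeOfDeg_of_isPullback H.flip hdeg
  exact ⟨d, hd, SqTors.pow_eq_one_of_pull g d (K471.NormLF.exists_fr_deg h1) c h⟩

theorem isGen_pullTop_sum {F' Ω : Type u} [Field F'] [Field Ω] [Algebra F' Ω] {X X₁ X' : Scheme.{u}}
    (g : X' ⟶ X) (g₁ : X₁ ⟶ X) (j : X' ⟶ X₁) (hj : j ≫ g₁ = g) (q' : X' ⟶ Spec (CommRingCat.of Ω))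
    (q₁ : X₁ ⟶ Spec (CommRingCat.of F'))
    (hj2 : j ≫ q₁ = q' ≫ Spec.map (CommRingCat.ofHom (algebraMap F' Ω))) (L : X.Modules) (l : List (F' × Γ(L, ⊤)))
    (h : IsGen ((l.map fun x => (fn q' (algebraMap F' Ω x.1) : Γ(X', ⊤)) • pullTop g x.2).sum)) :
    IsGen (pullTop j ((l.map fun x => (fn q₁ x.1 : Γ(X₁, ⊤)) • pullTop g₁ x.2).sum)) := by
  subst hj
  rw [← isGen_app_iff ((Scheme.Modules.pullbackComp j g₁).hom.app L)]
  have h1 : ((Scheme.Modules.pullbackComp j g₁).hom.app L).app ⊤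
      (pullTop j ((l.map fun x => (fn q₁ x.1 : Γ(X₁, ⊤)) • pullTop g₁ x.2).sum)) =
      (l.map fun x => (fn q' (algebraMap F' Ω x.1) : Γ(X', ⊤)) • pullTop (j ≫ g₁) x.2).sum := by
    have h2 : ∀ (a : Γ(X₁, ⊤)) (m : Γ(L, ⊤)), ((Scheme.Modules.pullbackComp j g₁).hom.app L).app ⊤
        (pullTop j (a • pullTop g₁ m)) = (j.appTop a : Γ(X', ⊤)) • pullTop (j ≫ g₁) m := by
      intro a m
      have h3 : pullTop j (a • pullTop g₁ m) = (j.appTop a : Γ(X', ⊤)) • pullTop j (pullTop g₁ m) :=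
        pullSec_smul j a (pullTop g₁ m)
      rw [h3, Scheme.Modules.Hom.app_smul]
      congr 1
      exact pullSec_comp' j g₁ m
    have h4 : ∀ x : F', j.appTop (fn q₁ x) = fn q' (algebraMap F' Ω x) := by
      intro x
      have h5 := fn_comp q₁ j
      rw [hj2, fn_spec] at h5
      exact congr($h5 x)
    let A : Γ((Scheme.Modules.pullback g₁).obj L, ⊤) →+ Γ((Scheme.Modules.pullback (j ≫ g₁)).obj L, ⊤) :=
      (((Scheme.Modules.pullbackComp j g₁).hom.app L).app ⊤).hom.comp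
        (((Scheme.Modules.pullbackPushforwardAdjunction j).unit.app _).app ⊤).hom
    have h5 : ∀ m, ((Scheme.Modules.pullbackComp j g₁).hom.app L).app ⊤ (pullTop j m) = A m := fun _ => rfl
    rw [h5, map_list_sum, List.map_map]
    congr 1
    refine List.map_congr_left fun x _ => ?_
    change A ((fn q₁ x.1 : Γ(X₁, ⊤)) • pullTop g₁ x.2) = _
    rw [← h5, h2, h4]
  rw [h1]
  exact h

/-- Algebraic field extensions. -/
theorem exists_pow_eq_one {F Ω : Type u} [Field F] [Field Ω] [Algebra F Ω] [Algebra.IsAlgebraic F Ω]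
    {X X' : Scheme.{u}} [CompactSpace X] [QuasiSeparatedSpace X] (q : X ⟶ Spec (CommRingCat.of F)) (g : X' ⟶ X)
    (q' : X' ⟶ Spec (CommRingCat.of Ω))
    (H : IsPullback g q' q (Spec.map (CommRingCat.ofHom (algebraMap F Ω)))) (c : Pic X) (h : pull g c = 1) :
    ∃ d : ℕ, 0 < d ∧ c ^ d = 1 := by
  obtain ⟨L, hL, rfl⟩ := exists_mk c
  rw [pull_mk, mk_eq_one_iff] at h
  obtain ⟨φ⟩ := h
  obtain ⟨hf1, hf2⟩ := flat_spec (K := F) (L := Ω)
  have hgs : Surjective g := MorphismProperty.of_isPullback H.flip hf2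
  have hLq : Coh.IsQCoh L := Groth.Agent.Ega2.QCohLocal.isQCoh_of_isInvertible hL
  have hqc : QuasiCompact q := (quasiCompact_iff_compactSpace (f := q)).mpr inferInstance
  have hqs : QuasiSeparated q := (quasiSeparated_iff_quasiSeparatedSpace (f := q)).mpr inferInstance
  let t' : Γ((Scheme.Modules.pullback g).obj L, ⊤) := sec φ.inv ⊤
  have ht' : IsGen t' := (isIso_iff_isGen φ.inv).mp inferInstance
  let _ : Algebra Γ(X, ⊤) Γ(X', ⊤) := (g.appLE ⊤ ⊤ (le_pt g ⊤)).hom.toAlgebra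
  let _ := secModule g L (le_pt g ⊤)
  have : IsScalarTower Γ(X, ⊤) Γ(X', ⊤) Γ((Scheme.Modules.pullback g).obj L, ⊤) :=
    ⟨fun a b c => by rw [Algebra.smul_def, mul_smul]; rfl⟩
  have hbc : IsBaseChange Γ(X', ⊤) (secₗ g L (le_pt g ⊤)) :=
    isBaseChange_secₗ_of_qcqs q q' _ g H L hLq (U := ⊤) isCompact_univ
      isQuasiSeparated_univ rfl
  let _ : Algebra F Γ(X, ⊤) := (fn q).toAlgebra
  obtain ⟨θ, hθ1, hθ2⟩ := exists_equiv q rfl g q' H
  have hsec : ∀ p : Γ(L, ⊤), secₗ g L (le_pt g ⊤) p = pullSec g p := by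
    intro p
    change res ((Scheme.Modules.pullback g).obj L) (le_refl ⊤) (pullSec g p) = pullSec g p
    exact res_refl _ _
  have halg : ∀ a : Γ(X, ⊤), algebraMap Γ(X, ⊤) Γ(X', ⊤) a = g.appTop a := by
    intro a
    have e2 : (g.appLE ⊤ ⊤ (le_pt g ⊤)) = g.appTop := appLE_top_top g
    exact congrArg (fun f : Γ(X, ⊤) ⟶ Γ(X', ⊤) => f.hom a) e2
  -- every section is a combination of pulled back sections with coefficients in `Ω`
  have key : ∀ t : Γ((Scheme.Modules.pullback g).obj L, ⊤), ∃ l : List (Ω × Γ(L, ⊤)),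
      t = (l.map fun x => (fn q' x.1 : Γ(X', ⊤)) • secₗ g L (le_pt g ⊤) x.2).sum := by
    intro t
    induction t using hbc.inductionOn with
    | zero => exact ⟨[], rfl⟩
    | tmul p => exact ⟨[(1, p)], by simp⟩
    | smul b t ht =>
      obtain ⟨l, rfl⟩ := ht
      obtain ⟨z, rfl⟩ := θ.surjective b
      induction z using TensorProduct.induction_on with
      | zero => exact ⟨[], by simp⟩
      | tmul a ω =>
        refine ⟨l.map fun x => (ω * x.1, a • x.2), ?_⟩
        have h1 : θ (a ⊗ₜ[F] ω) = algebraMap Γ(X, ⊤) Γ(X', ⊤) a * fn q' ω := by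
          rw [halg, ← hθ1, ← hθ2, ← map_mul, Algebra.TensorProduct.tmul_mul_tmul, mul_one, one_mul]
        rw [h1, List.map_map, List.smul_sum, List.map_map]
        congr 1
        refine List.map_congr_left fun x _ => ?_
        change (algebraMap Γ(X, ⊤) Γ(X', ⊤) a * fn q' ω) • (fn q' x.1 : Γ(X', ⊤)) • secₗ g L (le_pt g ⊤) x.2 =
          (fn q' (ω * x.1) : Γ(X', ⊤)) • secₗ g L (le_pt g ⊤) (a • x.2)
        rw [map_smul, ← algebraMap_smul Γ(X', ⊤) a, smul_smul, smul_smul, map_mul]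
        congr 1
        ring
      | add x y hx hy =>
        obtain ⟨l1, h1⟩ := hx
        obtain ⟨l2, h2⟩ := hy
        exact ⟨l1 ++ l2, by rw [map_add, add_smul, h1, h2, List.map_append, List.sum_append]⟩
    | add t1 t2 h1 h2 =>
      obtain ⟨l1, rfl⟩ := h1
      obtain ⟨l2, rfl⟩ := h2
      exact ⟨l1 ++ l2, by rw [List.map_append, List.sum_append]⟩
  obtain ⟨l, hl⟩ := key t'
  -- the finite extension
  let F' : IntermediateField F Ω := IntermediateField.adjoin F {ω | ω ∈ l.map Prod.fst}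
  have hfin : Finite {ω | ω ∈ l.map Prod.fst} := List.finite_toSet _
  have hfd : FiniteDimensional F F' :=
    IntermediateField.finiteDimensional_adjoin fun x _ => (Algebra.IsAlgebraic.isAlgebraic x).isIntegral
  have hmem : ∀ x ∈ l, x.1 ∈ F' := fun x hx =>
    IntermediateField.subset_adjoin F _ (List.mem_map.mpr ⟨x, hx, rfl⟩)
  let f₁ := Spec.map (CommRingCat.ofHom (algebraMap F F'))
  let f₂ := Spec.map (CommRingCat.ofHom (algebraMap F' Ω))
  have hf12 : f₂ ≫ f₁ = Spec.map (CommRingCat.ofHom (algebraMap F Ω)) := by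
    rw [← Spec.map_comp, ← CommRingCat.ofHom_comp, ← IsScalarTower.algebraMap_eq]
  let g₁ := pullback.fst q f₁
  let q₁ := pullback.snd q f₁
  have H₁ : IsPullback g₁ q₁ q f₁ := IsPullback.of_hasPullback q f₁
  let j : X' ⟶ pullback q f₁ := pullback.lift g (q' ≫ f₂) (by rw [H.w, Category.assoc, hf12])
  have hj1 : j ≫ g₁ = g := pullback.lift_fst _ _ _
  have hj2 : j ≫ q₁ = q' ≫ f₂ := pullback.lift_snd _ _ _
  have H₂ : IsPullback j q' q₁ f₂ := by
    refine IsPullback.of_right (h₁₂ := g₁) (v₁₃ := q) (h₂₂ := f₁) ?_ hj2 H₁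
    rw [hj1, hf12]
    exact H
  have hjs : Surjective j := MorphismProperty.of_isPullback H₂.flip (flat_spec (K := F') (L := Ω)).2
  suffices h1 : pull g₁ (mk L hL) = 1 from exists_pow_eq_one_of_finite q g₁ q₁ H₁ _ h1
  rw [pull_mk, mk_eq_one_iff]
  have hL' := isInvertible_pullback g₁ hL
  -- the section upstairs
  let l' : List (F' × Γ(L, ⊤)) := l.attach.map fun x => (⟨x.1.1, hmem x.1 x.2⟩, x.1.2)
  let t₁ : Γ((Scheme.Modules.pullback g₁).obj L, ⊤) :=
    (l'.map fun x => (fn q₁ x.1 : Γ(pullback q f₁, ⊤)) • pullTop g₁ x.2).sum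
  have ht₁ : IsGen (pullTop j t₁) := by
    refine isGen_pullTop_sum g g₁ j hj1 q' q₁ hj2 L l' ?_
    have h3 : (l'.map fun x => (fn q' (algebraMap F' Ω x.1) : Γ(X', ⊤)) • pullTop g x.2).sum = t' := by
      rw [hl, List.map_map]
      conv_rhs => rw [← List.attach_map_subtype_val l, List.map_map]
      congr 1
      refine List.map_congr_left fun x _ => ?_
      change (fn q' x.1.1 : Γ(X', ⊤)) • pullTop g x.1.2 =
        (fn q' x.1.1 : Γ(X', ⊤)) • secₗ g L (le_pt g ⊤) x.1.2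
      rw [hsec]
      rfl
    rw [h3]
    exact ht'
  have h2 : IsGen t₁ := S0232.isGen_of_pullSec j hL' t₁ ht₁
  have : IsIso (homOf t₁) := by
    rw [isIso_iff_isGen, sec_homOf]
    simpa using h2
  exact ⟨(asIso (homOf t₁)).symm⟩

end K489.SqField
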