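import Groth.Agent.AbVar.K507.SquareGeom
import Groth.Agent.AlgSp.K489.SqField
import Groth.Agent.Fga.ConnExt

/-!
# The square relation on a smooth scheme which is not connected

* `eq_one_of_components`: a class which is trivial on the connected components is trivial (components open).
* `E_square_all`, `E_square_geom_all`: the square relation with `W` smooth and quasi-compact, not necessarily connected.
-/

set_option autoImplicit false
universe u

open CategoryTheory Limits MonoidalCategory CartesianMonoidalCategory AlgebraicGeometry TopologicalSpace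
open scoped MonObj

namespace K489.SqComp

open Groth.Agent Groth.Agent.Grpsch.PicGrp Groth.Agent.Fdesc.LocGen Groth.Agent.Flat2H.FamExt
  Groth.Agent.Flat2H.FamDict K507.CubeGen K507.NCGroup K507.SquareGeom

theorem exists_isGen {X : Scheme.{u}} {L : X.Modules} (U : X.Opens)
    (h : Nonempty ((Scheme.Modules.pullback U.ι).obj L ≅ Coh.structureModule (U : Scheme.{u}))) :
    ∃ e : Γ(L, U), IsGen e := by
  obtain ⟨φ⟩ := h
  let ψ : L.restrict U.ι ≅ Coh.structureModule (U : Scheme.{u}) :=
    (Scheme.Modules.restrictFunctorIsoPullback U.ι).app L ≪≫ φ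
  have h1 : IsGen (sec ψ.inv ⊤) := (isIso_iff_isGen ψ.inv).mp inferInstance
  obtain ⟨m, hm⟩ := (toRestrict (M := L) U.ι (U := ⊤)).surjective (sec ψ.inv ⊤)
  rw [← hm, isGen_toRestrict_iff] at h1
  have hle : U ≤ U.ι ''ᵁ ⊤ := by simp
  exact ⟨res L hle m, h1.res _⟩

/-- A class which is trivial on all connected components is trivial. -/
theorem eq_one_of_components {X : Scheme.{u}} (hop : ∀ x : X, IsOpen (connectedComponent x)) (c : Pic X)
    (h : ∀ U : X.Opens, ConnectedSpace U → pull U.ι c = 1) : c = 1 := by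
  obtain ⟨L, hL, rfl⟩ := exists_mk c
  rw [mk_eq_one_iff]
  let I := {U : X.Opens // ∃ x, (U : Set X) = connectedComponent x}
  have hconn : ∀ i : I, ConnectedSpace i.1 := by
    rintro ⟨U, x, hx⟩
    have h1 : _root_.IsConnected (U : Set X) := by
      rw [hx]
      exact isConnected_connectedComponent
    exact isConnected_iff_connectedSpace.mp h1
  have he : ∀ i : I, ∃ e : Γ(L, i.1), IsGen e := fun i => by
    have h1 := h i.1 (hconn i)
    rw [pull_mk, mk_eq_one_iff] at h1
    exact exists_isGen i.1 h1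
  choose e he using he
  obtain ⟨G, hG⟩ := exists_trans (fun i : I => i.1) e he
  have hT : Trivs L (fun i : I => i.1) G :=
    ⟨fun x => ⟨⟨⟨connectedComponent x, hop x⟩, x, rfl⟩, mem_connectedComponent⟩, e, he, hG⟩
  refine SqTors.nonempty_iso_of_fam hT (fun _ => 1) (fun _ => isUnit_one) fun i j => ?_
  by_cases hij : i = j
  · subst hij
    rw [hT.self, mul_one]
  · have hbot : i.1 ⊓ j.1 = ⊥ := by
      rw [eq_bot_iff]
      rintro x ⟨hx1, hx2⟩
      exfalso
      apply hij
      obtain ⟨U, y, hy⟩ := i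
      obtain ⟨V, z, hz⟩ := j
      have h1 : x ∈ connectedComponent y := by rw [← hy]; exact hx1
      have h2 : x ∈ connectedComponent z := by rw [← hz]; exact hx2
      apply Subtype.ext
      apply Opens.ext
      rw [hy, hz, connectedComponent_eq h1, connectedComponent_eq h2]
    have : Subsingleton Γ(X, i.1 ⊓ j.1) := by
      rw [hbot]
      infer_instance
    exact Subsingleton.elim _ _

variable {K : Type u} [Field K] [IsAlgClosed K]

omit [IsAlgClosed K] in
theorem isOpen_connectedComponent {W : Over (Spec (CommRingCat.of K))} [Smooth W.hom] [QuasiCompact W.hom]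
    (x : W.left) : IsOpen (connectedComponent x) := by
  have h1 : IsLocallyNoetherian W.left := LocallyOfFiniteType.isLocallyNoetherian W.hom
  have h2 : CompactSpace W.left := (quasiCompact_iff_compactSpace (f := W.hom)).mp inferInstance
  have h3 : IsNoetherian W.left := {}
  exact Groth.Agent.Fga.ConnExt.isOpen_connectedComponent NoetherianSpace.finite_irreducibleComponents x

theorem E_square_all {U V W : Over (Spec (CommRingCat.of K))} [Smooth U.hom] [GeometricallyIntegral U.hom]
    [Smooth V.hom] [GeometricallyIntegral V.hom] [Smooth W.hom] [QuasiCompact W.hom]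
    (c : Pic (U ⊗ V ⊗ W).left)
    (a₀ a₁ : 𝟙_ (Over (Spec (CommRingCat.of K))) ⟶ U) (b₀ b₁ : 𝟙_ (Over (Spec (CommRingCat.of K))) ⟶ V) :
    E c (toUnit W ≫ a₀) (toUnit W ≫ b₀) (𝟙 W) * E c (toUnit W ≫ a₁) (toUnit W ≫ b₁) (𝟙 W) =
      E c (toUnit W ≫ a₀) (toUnit W ≫ b₁) (𝟙 W) * E c (toUnit W ≫ a₁) (toUnit W ≫ b₀) (𝟙 W) := by
  rw [← mul_inv_eq_one]
  refine eq_one_of_components isOpen_connectedComponent _ fun O hO => ?_
  let W' : Over (Spec (CommRingCat.of K)) := Over.mk (O.ι ≫ W.hom)
  have hsm : Smooth W'.hom := inferInstanceAs (Smooth (O.ι ≫ W.hom))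
  have hcs : ConnectedSpace W'.left := hO
  let i : W' ⟶ W := Over.homMk O.ι rfl
  have h := E_square (pull (U ◁ V ◁ i).left c) a₀ a₁ b₀ b₁
  have key : ∀ (a : 𝟙_ (Over (Spec (CommRingCat.of K))) ⟶ U) (b : 𝟙_ (Over (Spec (CommRingCat.of K))) ⟶ V),
      E (pull (U ◁ V ◁ i).left c) (toUnit W' ≫ a) (toUnit W' ≫ b) (𝟙 W') =
        pull i.left (E c (toUnit W ≫ a) (toUnit W ≫ b) (𝟙 W)) := by
    intro a b
    rw [pull_E, E_def, E_def, ← pull_comp, ← Over.comp_left]
    congr 3
    rw [lift_whiskerLeft, lift_whiskerLeft, Category.id_comp, Category.comp_id, comp_toUnit_assoc,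
      comp_toUnit_assoc]
  rw [key, key, key, key] at h
  change pull i.left _ = 1
  rw [map_mul, map_inv, map_mul, map_mul, h, mul_inv_cancel]

variable {k Ω : Type u} [Field k] [Field Ω] [IsAlgClosed Ω]
  (φ : Spec (CommRingCat.of Ω) ⟶ Spec (CommRingCat.of k))

/-- **The square relation at geometric points**, third factor smooth and quasi-compact. -/
theorem E_square_geom_all {U V W : Over (Spec (CommRingCat.of k))} [Smooth U.hom]
    [GeometricallyIntegral U.hom]
    [Smooth V.hom] [GeometricallyIntegral V.hom] [Smooth W.hom] [QuasiCompact W.hom]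
    (c : Pic (U ⊗ V ⊗ W).left) (a₀ a₁ : Over.mk φ ⟶ U) (b₀ b₁ : Over.mk φ ⟶ V) :
    E c (fst (Over.mk φ) W ≫ a₀) (fst (Over.mk φ) W ≫ b₀) (snd (Over.mk φ) W) *
      E c (fst (Over.mk φ) W ≫ a₁) (fst (Over.mk φ) W ≫ b₁) (snd (Over.mk φ) W) =
    E c (fst (Over.mk φ) W ≫ a₀) (fst (Over.mk φ) W ≫ b₁) (snd (Over.mk φ) W) *
      E c (fst (Over.mk φ) W ≫ a₁) (fst (Over.mk φ) W ≫ b₀) (snd (Over.mk φ) W) := by
  have hqc : QuasiCompact (bc φ W).hom := inferInstanceAs (QuasiCompact (pullback.fst φ W.hom))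
  have h := E_square_all (K := Ω) (U := bc φ U) (V := bc φ V) (W := bc φ W) (pull (π φ U V W).left c)
    (pt φ a₀) (pt φ a₁) (pt φ b₀) (pt φ b₁)
  have e : ∀ (a : Over.mk φ ⟶ U) (b : Over.mk φ ⟶ V),
      E (K := Ω) (X := bc φ U) (Y := bc φ V) (Z := bc φ W) (pull (π φ U V W).left c)
        (toUnit (bc φ W) ≫ pt φ a) (toUnit (bc φ W) ≫ pt φ b) (𝟙 (bc φ W)) =
      E c (fst (Over.mk φ) W ≫ a) (fst (Over.mk φ) W ≫ b) (snd (Over.mk φ) W) := by
    intro a b
    rw [E_def, E_def, ← pull_comp]
    exact congrArg (fun f => pull f c) (key φ a b)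
  rw [e, e, e, e] at h
  exact h

end K489.SqComp
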