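import Groth.Agent.Ega2.H275.FrameNorm
import Groth.Agent.Flat2H.FamDict
import Groth.Agent.Grpsch.PicGrp

/-!
# Norms of invertible modules: the kernel of `Pic X → Pic X'` is torsion for `X' → X` finite locally free

`pow_eq_one_of_pull`: `g : X' ⟶ X` with local frames of `g_* O_{X'}` of rank `d`; a class `c` with `g^* c = 1`
satisfies `c ^ d = 1`.
-/

set_option autoImplicit false
universe u

open CategoryTheory CategoryTheory.Limits AlgebraicGeometry TopologicalSpace

namespace K489.SqTors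

open Groth.Agent Groth.Agent.Grpsch.PicGrp Groth.Agent.Fdesc.LocGen Groth.Agent.Flat2H.FamExt
  Groth.Agent.Flat2H.FamDict Groth.Agent.Ega2.H275.FrameNorm

variable {X X' : Scheme.{u}}

/-- A trivialized module whose cocycle (to some power) is a coboundary of units is trivial. -/
theorem nonempty_iso_of_fam {ι : Type*} {L : X.Modules} {W : ι → X.Opens} {G : ∀ i j, Γ(X, W i ⊓ W j)}
    (h : Trivs L W G) (b : ∀ j, Γ(X, W j)) (hb : ∀ j, IsUnit (b j)) (hfam : IsFam W G b) :
    Nonempty (L ≅ Coh.structureModule X) := by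
  obtain ⟨s, hs⟩ := h.exists_sec b hfam
  have htop := h.iSup_eq
  have h1 : CohB1.genLocus L s = ⊤ := by
    rw [hs, ← htop]
    congr 1
    funext j
    exact X.basicOpen_of_isUnit (hb j)
  have h2 : IsIso s := by
    rw [isIso_iff_isGen]
    have h3 := isGen_sec_genLocus s
    rw [h1] at h3
    exact h3
  exact ⟨(asIso s).symm⟩

/-- The kernel of `Pic X → Pic X'` is killed by the degree. -/
theorem nonempty_tensorPow_iso (g : X' ⟶ X) (d : ℕ)
    (hfr : ∀ x : X, ∃ W : X.Opens, x ∈ W ∧ Nonempty (Fr g W d)) (L : X.Modules) (hL : PicF.IsInvertible L)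
    (φ : Nonempty ((Scheme.Modules.pullback g).obj L ≅ Coh.structureModule X')) :
    Nonempty (CohB1.tensorPow L d ≅ Coh.structureModule X) := by
  obtain ⟨φ⟩ := φ
  rw [isInvertible_iff] at hL
  choose U e hxU he using hL
  choose V hxV fr using hfr
  obtain ⟨W, e', he', hxW, fr'⟩ : ∃ (W : X → X.Opens) (e' : ∀ x, Γ(L, W x)), (∀ x, IsGen (e' x)) ∧
      (∀ x, x ∈ W x) ∧ ∀ x, Nonempty (Fr g (W x) d) :=
    ⟨fun x => U x ⊓ V x, fun x => res L inf_le_left (e x), fun x => (he x).res _,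
      fun x => ⟨hxU x, hxV x⟩, fun x => ⟨(fr x).some.restr inf_le_right⟩⟩
  obtain ⟨G, hG⟩ := exists_trans W e' he'
  have hT : Trivs L W G := ⟨fun x => ⟨x, hxW x⟩, e', he', hG⟩
  have hT' := hT.tensorPow d
  -- the global generator upstairs
  let s' : Γ((Scheme.Modules.pullback g).obj L, ⊤) := sec φ.inv ⊤
  have hs' : IsGen s' := (isIso_iff_isGen φ.inv).mp inferInstance
  have hb : ∀ x, ∃ b : Γ(X', g ⁻¹ᵁ W x), IsUnit b ∧
      res _ (le_top : g ⁻¹ᵁ W x ≤ ⊤) s' = b • pullSec g (e' x) := by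
    intro x
    obtain ⟨b, hb1⟩ := ((he' x).pullSec g).exists_eq (res _ (le_top : g ⁻¹ᵁ W x ≤ ⊤) s')
    refine ⟨b, ?_, hb1⟩
    have h2 : IsGen (b • pullSec g (e' x)) := by rw [← hb1]; exact hs'.res _
    exact ((he' x).pullSec g).isUnit_of_smul h2
  choose b hbu hb1 using hb
  refine nonempty_iso_of_fam hT' (fun x => nm g (W x) (b x)) (fun x => ?_) ?_
  · exact ((fr' x).some.isUnit_nm_iff le_rfl (b x)).mpr (hbu x)
  · intro x y
    have h3 : ores (pre g (inf_le_left : W x ⊓ W y ≤ W x)) (b x) * g.app (W x ⊓ W y) (G x y) =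
        ores (pre g (inf_le_right : W x ⊓ W y ≤ W y)) (b y) := by
      refine (((he' y).pullSec g).res (pre g (inf_le_right : W x ⊓ W y ≤ W y))).ext ?_
      have h4 := congrArg (res _ (pre g (inf_le_left : W x ⊓ W y ≤ W x))) (hb1 x)
      have h5 := congrArg (res _ (pre g (inf_le_right : W x ⊓ W y ≤ W y))) (hb1 y)
      rw [res_res, res_smul] at h4 h5
      have h6 := congrArg (pullSec g) (hG x y)
      rw [pullSec_smul, ← res_pullSec, ← res_pullSec] at h6
      exact (mul_smul _ _ _).trans ((congrArg _ h6.symm).trans (h4.symm.trans h5))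
    have h7 := congrArg (nm g (W x ⊓ W y)) h3
    rw [map_mul, (fr' x).some.nm_ores le_rfl inf_le_left, (fr' y).some.nm_ores le_rfl inf_le_right] at h7
    have h8 := (fr' x).some.nm_app inf_le_left (G x y)
    rw [← h7]
    congr 1
    exact h8.symm

theorem pow_eq_one_of_pull (g : X' ⟶ X) (d : ℕ)
    (hfr : ∀ x : X, ∃ W : X.Opens, x ∈ W ∧ Nonempty (Fr g W d)) (c : Pic X) (h : pull g c = 1) :
    c ^ d = 1 := by
  obtain ⟨L, hL, rfl⟩ := exists_mk c
  rw [pull_mk, mk_eq_one_iff] at h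
  rw [← mk_tensorPow, mk_eq_one_iff]
  exact nonempty_tensorPow_iso g d hfr L hL h

end K489.SqTors
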