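import Groth.Agent.AlgSp.K489.SqComp

/-!
# The square relation for a group acting on a smooth scheme, up to torsion

`square`: `K` a field, `H` a smooth geometrically integral `K`-group acting on a smooth quasi-compact `K`-scheme `Y`,
`t : Spec F ⟶ Spec K`, `g : Spec F ⟶ H` over `K`, `c` a class on `Y`: on `Y_F` the classes `(y ↦ g y)^* c` and
`(y ↦ g⁻¹ y)^* c` have product `(y ↦ y)^* c ^ 2` up to torsion.
-/

set_option autoImplicit false
universe u

open CategoryTheory Limits MonoidalCategory CartesianMonoidalCategory AlgebraicGeometry TopologicalSpace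
open scoped MonObj

namespace K489.Square

open Groth.Agent Groth.Agent.Grpsch.PicGrp K507.CubeGen

/-- The base change square of a product along `j : T' ⟶ T`. -/
theorem isPullback_whiskerRight {S : Scheme.{u}} {T T' : Over S} (j : T' ⟶ T) (Y : Over S) :
    IsPullback (j ▷ Y).left (fst T' Y).left (fst T Y).left j.left := by
  have h1 : IsPullback (snd T Y).left (fst T Y).left Y.hom T.hom := (IsPullback.of_hasPullback T.hom Y.hom).flip
  have h2 : IsPullback (snd T' Y).left (fst T' Y).left Y.hom T'.hom := (IsPullback.of_hasPullback T'.hom Y.hom).flip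
  have h3 : (j ▷ Y).left ≫ (snd T Y).left = (snd T' Y).left := by
    rw [← Over.comp_left, whiskerRight_snd]
  have h4 : (j ▷ Y).left ≫ (fst T Y).left = (fst T' Y).left ≫ j.left := by
    rw [← Over.comp_left, whiskerRight_fst, Over.comp_left]
  refine IsPullback.of_right (h₁₂ := (snd T Y).left) (v₁₃ := Y.hom) (h₂₂ := T.hom) ?_ h4 h1
  rw [h3, Over.w]
  exact h2

variable {K F : Type u} [Field K] [Field F] (t : Spec (CommRingCat.of F) ⟶ Spec (CommRingCat.of K))

/-- **The square relation for a group action, up to torsion.** -/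
theorem square (H Y : Over (Spec (CommRingCat.of K))) [GrpObj H] [Smooth H.hom]
    [GeometricallyIntegral H.hom] [Smooth Y.hom] [QuasiCompact Y.hom] [QuasiSeparated Y.hom]
    (act : H ⊗ Y ⟶ Y) (hact : lift (toUnit Y ≫ η[H]) (𝟙 Y) ≫ act = 𝟙 Y) (g : Over.mk t ⟶ H) (c : Pic Y.left) :
    ∃ n : ℕ, 0 < n ∧
      (pull (lift (fst (Over.mk t) Y ≫ g) (snd (Over.mk t) Y) ≫ act).left c *
        pull (lift (fst (Over.mk t) Y ≫ g⁻¹) (snd (Over.mk t) Y) ≫ act).left c) ^ n =
      pull (snd (Over.mk t) Y).left c ^ (2 * n) := by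
  let Ω := AlgebraicClosure F
  let s : Spec (CommRingCat.of Ω) ⟶ Spec (CommRingCat.of F) := Spec.map (CommRingCat.ofHom (algebraMap F Ω))
  let φ : Spec (CommRingCat.of Ω) ⟶ Spec (CommRingCat.of K) := s ≫ t
  let j : Over.mk φ ⟶ Over.mk t := Over.homMk s rfl
  let m : H ⊗ H ⊗ Y ⟶ Y := lift (fst H (H ⊗ Y) * (snd H (H ⊗ Y) ≫ fst H Y)) (snd H (H ⊗ Y) ≫ snd H Y) ≫ act
  have hE : ∀ {T : Over (Spec (CommRingCat.of K))} (a b : T ⟶ H) (z : T ⟶ Y),
      E (pull m.left c) a b z = pull (lift (a * b) z ≫ act).left c := by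
    intro T a b z
    rw [E_def, ← pull_comp, ← Over.comp_left]
    congr 3
    change lift a (lift b z) ≫ lift _ _ ≫ act = _
    rw [comp_lift_assoc]
    congr 2
    · rw [MonObj.comp_mul, lift_fst, lift_snd_assoc, lift_fst]
    · rw [lift_snd_assoc, lift_snd]
  have h := SqComp.E_square_geom_all φ (pull m.left c) (j ≫ g) 1 (j ≫ g⁻¹) 1
  rw [hE, hE, hE, hE] at h
  have h1 : lift (1 : (Over.mk φ ⊗ Y) ⟶ H) (snd (Over.mk φ) Y) ≫ act = snd (Over.mk φ) Y := by
    have h2 := congrArg (fun f => snd (Over.mk φ) Y ≫ f) hact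
    refine Eq.trans ?_ (h2.trans (Category.comp_id _))
    rw [comp_lift_assoc, Category.comp_id, comp_toUnit_assoc, Hom.one_def]
  have ea : fst (Over.mk φ) Y ≫ (j ≫ g) = j ▷ Y ≫ fst (Over.mk t) Y ≫ g := by
    rw [whiskerRight_fst_assoc]
  have eb : fst (Over.mk φ) Y ≫ (j ≫ g⁻¹) = j ▷ Y ≫ fst (Over.mk t) Y ≫ g⁻¹ := by
    rw [whiskerRight_fst_assoc]
  have e1 : fst (Over.mk φ) Y ≫ (1 : Over.mk φ ⟶ H) = 1 := MonObj.comp_one _
  have e2 : (j ≫ g) * (j ≫ g⁻¹) = 1 := by rw [← MonObj.comp_mul, mul_inv_cancel, MonObj.comp_one]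
  have e3 : fst (Over.mk φ) Y ≫ (j ≫ g) * fst (Over.mk φ) Y ≫ (j ≫ g⁻¹) = 1 := by
    rw [← MonObj.comp_mul, e2, MonObj.comp_one]
  rw [e3, e1, mul_one, mul_one, one_mul, h1, ea, eb] at h
  have key : ∀ z : Over.mk t ⊗ Y ⟶ H, pull (lift (j ▷ Y ≫ z) (snd (Over.mk φ) Y) ≫ act).left c =
      pull (j ▷ Y).left (pull (lift z (snd (Over.mk t) Y) ≫ act).left c) := by
    intro z
    rw [← pull_comp, ← Over.comp_left, comp_lift_assoc, whiskerRight_snd]
  have key' : pull (snd (Over.mk φ) Y).left c = pull (j ▷ Y).left (pull (snd (Over.mk t) Y).left c) := by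
    rw [← pull_comp, ← Over.comp_left, whiskerRight_snd]
  rw [key, key, key'] at h
  have H₀ : IsPullback (j ▷ Y).left (fst (Over.mk φ) Y).left (fst (Over.mk t) Y).left s :=
    isPullback_whiskerRight j Y
  have hqc : QuasiCompact (fst (Over.mk t) Y).left := inferInstanceAs (QuasiCompact (pullback.fst t Y.hom))
  have hqs : QuasiSeparated (fst (Over.mk t) Y).left := inferInstanceAs (QuasiSeparated (pullback.fst t Y.hom))
  have i1 : QuasiSeparatedSpace (Over.mk t).left := inferInstanceAs (QuasiSeparatedSpace (Spec (CommRingCat.of F)))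
  have i2 : CompactSpace (Over.mk t).left := inferInstanceAs (CompactSpace (Spec (CommRingCat.of F)))
  have hc : CompactSpace (Over.mk t ⊗ Y).left :=
    (quasiCompact_iff_compactSpace (f := (fst (Over.mk t) Y).left)).mp hqc
  have hs : QuasiSeparatedSpace (Over.mk t ⊗ Y).left :=
    (quasiSeparated_iff_quasiSeparatedSpace (f := (fst (Over.mk t) Y).left)).mp hqs
  obtain ⟨n, hn, hx⟩ := SqField.exists_pow_eq_one (F := F) (Ω := Ω) (fst (Over.mk t) Y).left (j ▷ Y).left
    (fst (Over.mk φ) Y).left H₀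
    ((pull (lift (fst (Over.mk t) Y ≫ g) (snd (Over.mk t) Y) ≫ act).left c *
        pull (lift (fst (Over.mk t) Y ≫ g⁻¹) (snd (Over.mk t) Y) ≫ act).left c) *
      (pull (snd (Over.mk t) Y).left c ^ 2)⁻¹) (by
        rw [map_mul, map_inv, map_mul, map_pow, pow_two, h, mul_inv_cancel])
  refine ⟨n, hn, ?_⟩
  rw [mul_pow, inv_pow, mul_inv_eq_one] at hx
  rw [hx, ← pow_mul]

end K489.Square
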